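import Groth.Agent.NormalLib.Finite
import Groth.Agent.Lib.DivisorExt

/-!
# The normal sheaf of a closed immersion
-/

set_option autoImplicit false
set_option backward.isDefEq.respectTransparency false
set_option backward.isDefEq.respectTransparency.types false
universe u

open CategoryTheory CategoryTheory.Limits AlgebraicGeometry

noncomputable section

namespace Groth.Agent.NormalLib

variable {A : Type u} [CommRing A] {X Y : Scheme.{u}} [X.Over (Spec (CommRingCat.of A))]
  [Y.Over (Spec (CommRingCat.of A))] (i : X ⟶ Y) [IsClosedImmersion i]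

/-- Global sections of the normal sheaf of a closed immersion. -/
theorem nonempty_normal_linearEquiv_imm
    (hi : i ≫ (Y ↘ Spec (CommRingCat.of A)) = X ↘ Spec (CommRingCat.of A))
    [DCoh.HasSheafHom (Omega.conormal i)] :
    Nonempty ((ClSub.idealMod i.ker ⟶ ClSub.quotMod i.ker) ≃ₗ[A]
      Coh.HH X ((DCoh.sheafHom (Omega.conormal i)).obj (Coh.structureModule X)) 0) := by
  haveI : i.IsOver (Spec (CommRingCat.of A)) := ⟨hi⟩
  let ad := Scheme.Modules.pullbackPushforwardAdjunction i
  obtain ⟨e⟩ := DivisorExt.nonempty_quotMod_iso i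
  let f : (Omega.conormal i ⟶ Coh.structureModule X) → (ClSub.idealMod i.ker ⟶ ClSub.quotMod i.ker) :=
    fun φ => ad.homEquiv _ _ φ ≫ e.inv
  obtain ⟨e'⟩ := nonempty_hom_linearEquiv_HH (A := A) (Omega.conormal i) (Coh.structureModule X)
  refine ⟨LinearEquiv.trans (LinearEquiv.ofBijective
    { toFun := f, map_add' := fun φ ψ => ?_, map_smul' := fun a φ => ?_ } ⟨?_, ?_⟩).symm e'⟩
  · show ad.homEquiv _ _ (φ + ψ) ≫ e.inv = ad.homEquiv _ _ φ ≫ e.inv + ad.homEquiv _ _ ψ ≫ e.inv
    rw [← Preadditive.add_comp, Adjunction.homEquiv_unit, Adjunction.homEquiv_unit, Adjunction.homEquiv_unit,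
      Functor.map_add, Preadditive.comp_add]
  · show ad.homEquiv _ _ (a • φ) ≫ e.inv = a • (ad.homEquiv _ _ φ ≫ e.inv)
    rw [Adjunction.homEquiv_unit, Adjunction.homEquiv_unit, Functor.map_smul, Linear.comp_smul, Linear.smul_comp]
  · intro φ ψ h
    exact (ad.homEquiv _ _).injective ((cancel_mono e.inv).1 h)
  · intro g
    refine ⟨(ad.homEquiv _ _).symm (g ≫ e.hom), ?_⟩
    show ad.homEquiv _ _ ((ad.homEquiv _ _).symm (g ≫ e.hom)) ≫ e.inv = g
    rw [Equiv.apply_symm_apply, Category.assoc, e.hom_inv_id, Category.comp_id]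

end Groth.Agent.NormalLib

end
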