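import Groth.Agent.NormalLib.H0
import Groth.Agent.CurveCohLib.Proper
import Groth.Agent.SheafHomX.Coherent
import Groth.Agent.KZ.ClosedDev
import Groth.Agent.ParShLib.ResStalk
import Groth.Agent.NQF.GlobalR
import Groth.Prelude.Def_CohB1

/-!
# Finiteness of the sections of the normal sheaf
-/

set_option autoImplicit false
universe u

open CategoryTheory CategoryTheory.Limits AlgebraicGeometry

noncomputable section

namespace Groth.Agent.NormalLib

/-- The sheaf Hom exists. -/
theorem hasSheafHom {X : Scheme.{u}} (F : X.Modules) : DCoh.HasSheafHom F :=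
  ((SheafHomX.adj F).ofNatIsoLeft ((KFlatLib.tensorBiFlipIso X).app F)).isLeftAdjoint

/-- Projective schemes over a field are proper. -/
theorem isProper_of_projective {k : Type u} [Field k] {X : Scheme.{u}} (x : X ⟶ Spec (CommRingCat.of k))
    (hproj : ∃ (n : ℕ) (c : X ⟶ CohB1.ProjSpaceOver n (Spec (CommRingCat.of k))),
      IsClosedImmersion c ∧ c ≫ CohB1.ProjSpaceOver.toBase n (Spec (CommRingCat.of k)) = x) : IsProper x := by
  obtain ⟨n, c, hc, hcw⟩ := hproj
  haveI := hc
  haveI : IsProper (CohB1.ProjSpaceOver.toBase n (Spec (CommRingCat.of k))) :=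
    MorphismProperty.of_isPullback (IsPullback.of_hasPullback (CohB1.ProjSpace.toSpec n (ULift.{u} ℤ))
      (specULiftZIsTerminal.from (Spec (CommRingCat.of k)))) (Groth.Agent.PnCoh.Chow.isProper_toSpec n (ULift.{u} ℤ))
  rw [← hcw]
  infer_instance

theorem isCoh_idealMod {Y : Scheme.{u}} [IsLocallyNoetherian Y] (I : Y.IdealSheafData) :
    Coh.IsCoh (ClSub.idealMod I) :=
  QCoh.isCoh_kernel QCoh.isCoh_structureModule' (ParShLib.isCoh_quotMod I) _

theorem isCoh_conormal {X Y : Scheme.{u}} (i : X ⟶ Y) [IsClosedImmersion i] [IsLocallyNoetherian Y] :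
    Coh.IsCoh (Omega.conormal i) :=
  KZ.ClosedDev.isCoh_pull i (isCoh_idealMod i.ker)

variable {k : Type u} [Field k]

/-- Cohomology of the normal sheaf is finite. -/
theorem finite_normal_HH {X Y : Scheme.{u}} [X.Over (Spec (CommRingCat.of k))]
    [IsProper (X ↘ Spec (CommRingCat.of k))] (i : X ⟶ Y) [IsClosedImmersion i] [IsLocallyNoetherian Y]
    [DCoh.HasSheafHom (Omega.conormal i)] (n : ℕ) :
    Module.Finite k (Coh.HH X ((DCoh.sheafHom (Omega.conormal i)).obj (Coh.structureModule X)) n) := by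
  haveI := CurveCohLib.isNoetherian_of_proper (k := k) (X := X)
  refine CurveCohLib.finite_HH ?_ n
  exact SheafHomX.isCoh_of_iso ((AmpleVan.sheafHomIso (Omega.conormal i)).app _).symm
    (SheafHomX.isCoh_hom (isCoh_conormal i) QCoh.isCoh_structureModule')

/-- Maps from the ideal to the quotient form a finite dimensional space. -/
theorem finite_hom {Y : Scheme.{u}} [Y.Over (Spec (CommRingCat.of k))] [IsLocallyNoetherian Y] (I₀ : Y.IdealSheafData)
    [I₀.subscheme.Over (Spec (CommRingCat.of k))] [IsProper (I₀.subscheme ↘ Spec (CommRingCat.of k))]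
    (hY : I₀.subscheme ↘ Spec (CommRingCat.of k) = I₀.subschemeι ≫ (Y ↘ Spec (CommRingCat.of k))) :
    Module.Finite k (ClSub.idealMod I₀ ⟶ ClSub.quotMod I₀) := by
  haveI := hasSheafHom (Omega.conormal I₀.subschemeι)
  obtain ⟨e⟩ := nonempty_normal_linearEquiv (A := k) I₀ hY
  haveI := finite_normal_HH (k := k) I₀.subschemeι 0
  exact Module.Finite.equiv e.symm

end Groth.Agent.NormalLib

end
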