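import Groth.Agent.QCoh.FT

/-!
# Maps on an affine chart from maps of sections
-/

set_option autoImplicit false
set_option backward.isDefEq.respectTransparency false
set_option backward.isDefEq.respectTransparency.types false
universe u

open CategoryTheory CategoryTheory.Limits AlgebraicGeometry

noncomputable section

namespace Groth.Agent.NormalLib.Chart

variable {X : Scheme.{u}}

theorem toChart_app {U : X.Opens} (hU : IsAffineOpen U) {M N : X.Modules} (φ : M ⟶ N) (s : Γ(M, U)) :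
    (moduleSpecΓFunctor.map ((Scheme.Modules.restrictFunctor hU.fromSpec).map φ)).hom (QCoh.chartEquiv hU M s) =
      QCoh.chartEquiv hU N (φ.app U s) :=
  congr($(φ.mapPresheaf.naturality (homOfLE (QCoh.image_top_fromSpec hU).le).op) s)

/-- A linear map of sections over an affine open which extends `κ` gives an extension on the chart. -/
theorem exists_restrict_ext {U : X.Opens} (hU : IsAffineOpen U) {K G Q : X.Modules}
    (hK : Coh.IsQCoh K) (hG : Coh.IsQCoh G) (hQ : Coh.IsQCoh Q) (a : K ⟶ G) (κ : K ⟶ Q)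
    (f : Γ(G, U) →ₗ[Γ(X, U)] Γ(Q, U)) (h : ∀ s, f (a.app U s) = κ.app U s) :
    ∃ θ : (Scheme.Modules.restrictFunctor hU.fromSpec).obj G ⟶ (Scheme.Modules.restrictFunctor hU.fromSpec).obj Q,
      (Scheme.Modules.restrictFunctor hU.fromSpec).map a ≫ θ =
        (Scheme.Modules.restrictFunctor hU.fromSpec).map κ := by
  let R := Scheme.Modules.restrictFunctor hU.fromSpec
  have hiso : ∀ {M : X.Modules}, Coh.IsQCoh M → IsIso (Scheme.Modules.fromTildeΓ (M.restrict hU.fromSpec)) :=
    fun hM => (isQuasicoherent_iff_isIso_fromTildeΓ _).1 (QCoh.isQCoh_restrict hU.fromSpec hM)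
  haveI := hiso hK
  haveI := hiso hG
  haveI := hiso hQ
  let M₁ : ModuleCat Γ(X, U) := moduleSpecΓFunctor.obj (G.restrict hU.fromSpec)
  let M₂ : ModuleCat Γ(X, U) := moduleSpecΓFunctor.obj (Q.restrict hU.fromSpec)
  let eG : Γ(G, U) ≃ₗ[Γ(X, U)] M₁ := QCoh.chartEquiv hU G
  let eQ : Γ(Q, U) ≃ₗ[Γ(X, U)] M₂ := QCoh.chartEquiv hU Q
  let l : M₁ →ₗ[Γ(X, U)] M₂ := eQ.toLinearMap ∘ₗ f ∘ₗ eG.symm.toLinearMap
  let f' : M₁ ⟶ M₂ := @ModuleCat.ofHom Γ(X, U) _ M₁ M₂ _ M₁.isModule _ M₂.isModule l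
  let θ : G.restrict hU.fromSpec ⟶ Q.restrict hU.fromSpec :=
    inv (Scheme.Modules.fromTildeΓ (G.restrict hU.fromSpec)) ≫ (tilde.functor Γ(X, U)).map f' ≫
      Scheme.Modules.fromTildeΓ (Q.restrict hU.fromSpec)
  have nat : ∀ {M N : (Spec Γ(X, U)).Modules} (g : M ⟶ N),
      (tilde.functor Γ(X, U)).map (moduleSpecΓFunctor.map g) ≫ Scheme.Modules.fromTildeΓ N =
        Scheme.Modules.fromTildeΓ M ≫ g := fun g => (tilde.adjunction (R := Γ(X, U))).counit.naturality g
  have e : moduleSpecΓFunctor.map (R.map a) ≫ f' = moduleSpecΓFunctor.map (R.map κ) := by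
    apply ModuleCat.hom_ext
    refine LinearMap.ext fun z => ?_
    obtain ⟨s, rfl⟩ := (QCoh.chartEquiv hU K).surjective z
    refine Eq.trans ?_ (toChart_app hU κ s).symm
    show QCoh.chartEquiv hU Q (f ((QCoh.chartEquiv hU G).symm ((moduleSpecΓFunctor.map (R.map a)).hom
      (QCoh.chartEquiv hU K s)))) = _
    rw [toChart_app, LinearEquiv.symm_apply_apply, h]
  refine ⟨θ, ?_⟩
  rw [← cancel_epi (Scheme.Modules.fromTildeΓ (K.restrict hU.fromSpec)), ← Category.assoc]
  have e1 := (nat (R.map a)).symm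
  refine (congrArg (· ≫ θ) e1).trans ?_
  simp only [θ, Category.assoc]
  rw [IsIso.hom_inv_id_assoc, ← Category.assoc, ← Functor.map_comp, e]
  exact nat (R.map κ)

end Groth.Agent.NormalLib.Chart

end
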