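import Groth.Agent.NormalLib.H0
import Groth.Agent.PnCoh.Finite.HHLin

/-!
# The obstruction to extending a locally extendable map out of a kernel

For an epimorphism `φ : G ⟶ I` and a map `κ : kernel φ ⟶ Q` which extends to `G` locally, the obstruction to
extending it globally lives in `H¹(hom(I, Q))`.
-/

set_option autoImplicit false
set_option backward.isDefEq.respectTransparency false
set_option backward.isDefEq.respectTransparency.types false
universe u

open CategoryTheory CategoryTheory.Limits AlgebraicGeometry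

noncomputable section

namespace Groth.Agent.NormalLib.LocalExt

variable {A : Type u} [CommRing A] {X : Scheme.{u}} [X.Over (Spec (CommRingCat.of A))] (I Q : X.Modules)

instance enoughInjectives : EnoughInjectives X.Modules := inferInstanceAs (EnoughInjectives (SheafOfModules _))

/-- The chosen embedding into an injective. -/
abbrev inj : Q ⟶ Injective.under Q := Injective.ι Q

/-- Its cokernel map. -/
abbrev qπ : Injective.under Q ⟶ cokernel (inj Q) := cokernel.π (inj Q)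

/-- `hom(I, -)` of the embedding and of the image of the cokernel map. -/
def hSeq : ShortComplex X.Modules :=
  ShortComplex.mk ((SheafHomX.hom I).map (inj Q)) (Abelian.factorThruImage ((SheafHomX.hom I).map (qπ Q))) (by
    rw [← cancel_mono (Abelian.image.ι ((SheafHomX.hom I).map (qπ Q))), Category.assoc, Abelian.image.fac, zero_comp,
      ← Functor.map_comp, cokernel.condition, Functor.map_zero])

theorem hSeq_shortExact : (hSeq I Q).ShortExact := by
  haveI : PreservesLimitsOfSize.{0, 0} (SheafHomX.hom I) := (SheafHomX.adj I).rightAdjoint_preservesLimits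
  haveI : Mono (hSeq I Q).f := (SheafHomX.hom I).map_mono (inj Q)
  haveI : Epi (hSeq I Q).g := by dsimp [hSeq]; infer_instance
  let S₀ : ShortComplex X.Modules := ShortComplex.mk (inj Q) (qπ Q) (cokernel.condition _)
  have h0 : S₀.Exact := ShortComplex.exact_of_g_is_cokernel S₀ (cokernelIsCokernel _)
  haveI : Mono S₀.f := inferInstanceAs (Mono (inj Q))
  have h1 : (S₀.map (SheafHomX.hom I)).Exact := h0.map_of_mono_of_preservesKernel _ inferInstance inferInstance
  let ι : hSeq I Q ⟶ S₀.map (SheafHomX.hom I) :=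
    { τ₁ := 𝟙 _
      τ₂ := 𝟙 _
      τ₃ := Abelian.image.ι ((SheafHomX.hom I).map (qπ Q))
      comm₁₂ := by simp [hSeq, S₀]
      comm₂₃ := by simp [hSeq, S₀] }
  haveI : Epi ι.τ₁ := by dsimp [ι]; infer_instance
  haveI : IsIso ι.τ₂ := by dsimp [ι]; infer_instance
  haveI : Mono ι.τ₃ := by dsimp [ι]; infer_instance
  exact { exact := (ShortComplex.exact_iff_of_epi_of_isIso_of_mono ι).2 h1 }

theorem ev_symm_smul (M N : X.Modules) (a : A) (φ : M ⟶ N) :
    (SheafHomX.ev M N).symm (a • φ) = a • (SheafHomX.ev M N).symm φ := by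
  rw [AddEquiv.symm_apply_eq,
    show a • (SheafHomX.ev M N).symm φ = (SheafHomX.ev M N).symm φ ≫ (SheafHomX.hom M).map (Formal.smulMod A N a) by
      rw [PnDual.hom_map_smulMod, ← KLin.smul_id, Linear.comp_smul, Category.comp_id],
    SheafHomX.ev_naturality, AddEquiv.apply_symm_apply, ← KLin.smul_id, Linear.comp_smul, Category.comp_id]

variable (A) in
/-- The maps `I ⟶ coker(Q → Inj)` which lift locally. -/
def liftable : Submodule A (I ⟶ cokernel (inj Q)) where
  carrier := {ψ | (SheafHomX.ev I _).symm ψ ≫ cokernel.π ((SheafHomX.hom I).map (qπ Q)) = 0}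
  zero_mem' := by simp
  add_mem' {a b} ha hb := by
    show (SheafHomX.ev I _).symm (a + b) ≫ _ = 0
    rw [map_add, Preadditive.add_comp]
    exact add_eq_zero_iff_eq_neg.2 (by rw [ha, hb, neg_zero])
  smul_mem' c a ha := by
    show (SheafHomX.ev I _).symm (c • a) ≫ _ = 0
    rw [ev_symm_smul, Linear.smul_comp]
    exact smul_eq_zero_of_right c ha

/-- The element of the image attached to a liftable map. -/
def zEl (ψ : liftable A I Q) : Coh.structureModule X ⟶ (hSeq I Q).X₃ :=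
  kernel.lift _ ((SheafHomX.ev I _).symm ψ.1) ψ.2

theorem zEl_ι (ψ : liftable A I Q) :
    zEl I Q ψ ≫ Abelian.image.ι ((SheafHomX.hom I).map (qπ Q)) = (SheafHomX.ev I _).symm ψ.1 :=
  kernel.lift_ι _ _ _

variable (A) in
/-- The connecting map on liftable maps. -/
def obψ : liftable A I Q →ₗ[A] Coh.HH X ((SheafHomX.hom I).obj Q) 1 :=
  (PnCoh.Finite.deltaLin A (hSeq_shortExact I Q) 0).comp
    { toFun := fun ψ => SheafHomX.cls (zEl I Q ψ)
      map_add' := fun a b => by
        rw [← cls_add]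
        refine congrArg _ ((cancel_mono (Abelian.image.ι ((SheafHomX.hom I).map (qπ Q)))).1 ?_)
        rw [Preadditive.add_comp, zEl_ι, zEl_ι, zEl_ι]
        exact map_add _ _ _
      map_smul' := fun c a => by
        rw [RingHom.id_apply, ← cls_smul]
        refine congrArg _ ((cancel_mono (Abelian.image.ι ((SheafHomX.hom I).map (qπ Q)))).1 ?_)
        rw [Linear.smul_comp, zEl_ι, zEl_ι]
        exact ev_symm_smul I _ c a.1 }

theorem liftable_comp (ξ : I ⟶ Injective.under Q) : ξ ≫ qπ Q ∈ liftable A I Q := by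
  show (SheafHomX.ev I _).symm (ξ ≫ qπ Q) ≫ _ = 0
  have h : (SheafHomX.ev I _).symm (ξ ≫ qπ Q) = (SheafHomX.ev I _).symm ξ ≫ (SheafHomX.hom I).map (qπ Q) := by
    rw [AddEquiv.symm_apply_eq, SheafHomX.ev_naturality, AddEquiv.apply_symm_apply]
  rw [h, Category.assoc, cokernel.condition, comp_zero]

theorem obψ_eq_zero_iff (ψ : liftable A I Q) :
    obψ A I Q ψ = 0 ↔ ∃ ξ : I ⟶ Injective.under Q, ξ ≫ qπ Q = ψ.1 := by
  constructor
  · intro h
    obtain ⟨y', hy'⟩ := PnCoh.Finite.exists_of_deltaLin_eq_zero A (hSeq_shortExact I Q) 0 h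
    obtain ⟨y, rfl⟩ := SheafHomX.cls_surjective y'
    refine ⟨SheafHomX.ev I _ y, ?_⟩
    have e : y ≫ (hSeq I Q).g = zEl I Q ψ := SheafHomX.cls_injective ((SheafHomX.map_cls y _).symm.trans hy')
    have e' := congrArg (fun f => f ≫ Abelian.image.ι ((SheafHomX.hom I).map (qπ Q))) e
    simp only [hSeq, Category.assoc, Abelian.image.fac] at e'
    rw [zEl_ι] at e'
    rw [← SheafHomX.ev_naturality, e', AddEquiv.apply_symm_apply]
  · rintro ⟨ξ, hξ⟩
    refine (QCoh.Ab.connecting_eq_zero_iff (X := X.toPresheafedSpace.carrier)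
      (QCoh.toAb_shortExact (hSeq_shortExact I Q)) 0 _).2 ⟨SheafHomX.cls ((SheafHomX.ev I _).symm ξ), ?_⟩
    refine (SheafHomX.map_cls _ _).trans (congrArg _ ?_)
    refine (cancel_mono (Abelian.image.ι ((SheafHomX.hom I).map (qπ Q)))).1 ?_
    rw [zEl_ι, Category.assoc]
    show (SheafHomX.ev I _).symm ξ ≫ Abelian.factorThruImage _ ≫ _ = _
    rw [Abelian.image.fac, eq_comm, AddEquiv.symm_apply_eq, SheafHomX.ev_naturality, AddEquiv.apply_symm_apply, hξ]

/-- `κ` extends locally. -/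
def LocLift {G : X.Modules} (φ : G ⟶ I) (κ : kernel φ ⟶ Q) : Prop :=
  ∀ x : X, ∃ (Y : Scheme.{u}) (j : Y ⟶ X) (_ : IsOpenImmersion j), x ∈ Set.range j.base ∧
    ∃ θ : (Scheme.Modules.restrictFunctor j).obj G ⟶ (Scheme.Modules.restrictFunctor j).obj Q,
      (Scheme.Modules.restrictFunctor j).map (kernel.ι φ) ≫ θ = (Scheme.Modules.restrictFunctor j).map κ

variable (A) in
/-- `v` is the obstruction of `κ`. -/
def ObIs {G : X.Modules} (φ : G ⟶ I) (κ : kernel φ ⟶ Q) (v : Coh.HH X ((SheafHomX.hom I).obj Q) 1) : Prop :=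
  ∃ (θ : G ⟶ Injective.under Q) (ψ : liftable A I Q),
    kernel.ι φ ≫ θ = κ ≫ inj Q ∧ φ ≫ ψ.1 = θ ≫ qπ Q ∧ obψ A I Q ψ = v

variable {I Q}

theorem liftable_of_locLift {G : X.Modules} (φ : G ⟶ I) [Epi φ] (κ : kernel φ ⟶ Q) (h : LocLift I Q φ κ)
    (θ : G ⟶ Injective.under Q) (hθ : kernel.ι φ ≫ θ = κ ≫ inj Q) (ψ : I ⟶ cokernel (inj Q))
    (hψ : φ ≫ ψ = θ ≫ qπ Q) : ψ ∈ liftable A I Q := by
  choose Y j hj hx θl hθl using h
  let T := SheafHomX.hom I
  have key : T.map ψ ≫ cokernel.π (T.map (qπ Q)) = 0 := by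
    refine SheafHomX.eq_zero_of_restrict j (fun x => ⟨x, hx x⟩) _ fun x => ?_
    let R := Scheme.Modules.restrictFunctor (j x)
    let S : ShortComplex X.Modules := ShortComplex.mk (kernel.ι φ) φ (kernel.condition φ)
    have hS : S.Exact := ShortComplex.exact_of_f_is_kernel S (kernelIsKernel φ)
    haveI : Mono S.f := inferInstanceAs (Mono (kernel.ι φ))
    have hSR : (S.map R).Exact := hS.map_of_mono_of_preservesKernel R inferInstance inferInstance
    haveI : Epi (S.map R).g := R.map_epi φ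
    have hd : (S.map R).f ≫ (R.map θ - θl x ≫ R.map (inj Q)) = 0 := by
      show R.map (kernel.ι φ) ≫ _ = 0
      rw [Preadditive.comp_sub, ← Category.assoc, hθl, ← R.map_comp, ← R.map_comp, hθ, sub_self]
    let ξ : R.obj I ⟶ R.obj (Injective.under Q) := hSR.desc _ hd
    have hξ : ξ ≫ R.map (qπ Q) = R.map ψ := by
      refine (cancel_epi (S.map R).g).1 ?_
      rw [← Category.assoc, hSR.g_desc, Preadditive.sub_comp, Category.assoc, ← R.map_comp, ← R.map_comp,
        cokernel.condition, Functor.map_zero, comp_zero, sub_zero, ← hψ, R.map_comp]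
      rfl
    have e1 : R.map (T.map ψ) = ((SheafHomX.restrictIso (j x) I).hom.app I ≫
        (SheafHomX.hom (R.obj I)).map ξ ≫ (SheafHomX.restrictIso (j x) I).inv.app _) ≫ R.map (T.map (qπ Q)) := by
      rw [← cancel_mono ((SheafHomX.restrictIso (j x) I).hom.app (cokernel (inj Q))), SheafHomX.restrict_map,
        Category.assoc, SheafHomX.restrict_map, Category.assoc, Category.assoc, Iso.inv_hom_id_app_assoc,
        ← Functor.map_comp, hξ]
    rw [R.map_comp, e1, Category.assoc, ← R.map_comp, cokernel.condition, Functor.map_zero, comp_zero]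
  show (SheafHomX.ev I _).symm ψ ≫ _ = 0
  rw [show (SheafHomX.ev I _).symm ψ = (SheafHomX.ev I _).symm (𝟙 I) ≫ T.map ψ by
    rw [AddEquiv.symm_apply_eq, SheafHomX.ev_naturality, AddEquiv.apply_symm_apply, Category.id_comp],
    Category.assoc, key, comp_zero]

theorem exists_obIs {G : X.Modules} (φ : G ⟶ I) [Epi φ] (κ : kernel φ ⟶ Q) (h : LocLift I Q φ κ) :
    ∃ v, ObIs A I Q φ κ v := by
  let θ := Injective.factorThru (κ ≫ inj Q) (kernel.ι φ)
  have hθ : kernel.ι φ ≫ θ = κ ≫ inj Q := Injective.comp_factorThru _ _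
  have h0 : kernel.ι φ ≫ θ ≫ qπ Q = 0 := by
    rw [← Category.assoc, hθ, Category.assoc, cokernel.condition, comp_zero]
  exact ⟨_, θ, ⟨Abelian.epiDesc φ _ h0, liftable_of_locLift φ κ h θ hθ _ (Abelian.comp_epiDesc _ _ _)⟩, hθ,
    Abelian.comp_epiDesc _ _ _, rfl⟩

theorem obIs_unique {G : X.Modules} {φ : G ⟶ I} [Epi φ] {κ : kernel φ ⟶ Q}
    {v v' : Coh.HH X ((SheafHomX.hom I).obj Q) 1} (h : ObIs A I Q φ κ v) (h' : ObIs A I Q φ κ v') : v = v' := by
  obtain ⟨θ, ψ, hθ, hψ, rfl⟩ := h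
  obtain ⟨θ', ψ', hθ', hψ', rfl⟩ := h'
  rw [← sub_eq_zero, ← map_sub, obψ_eq_zero_iff]
  have h0 : kernel.ι φ ≫ (θ - θ') = 0 := by rw [Preadditive.comp_sub, hθ, hθ', sub_self]
  refine ⟨Abelian.epiDesc φ _ h0, (cancel_epi φ).1 ?_⟩
  rw [← Category.assoc, Abelian.comp_epiDesc, Preadditive.sub_comp, ← hψ, ← hψ', ← Preadditive.comp_sub]
  rfl

theorem ObIs.add {G : X.Modules} {φ : G ⟶ I} {κ κ' : kernel φ ⟶ Q}
    {v v' : Coh.HH X ((SheafHomX.hom I).obj Q) 1} (h : ObIs A I Q φ κ v) (h' : ObIs A I Q φ κ' v') :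
    ObIs A I Q φ (κ + κ') (v + v') := by
  obtain ⟨θ, ψ, hθ, hψ, rfl⟩ := h
  obtain ⟨θ', ψ', hθ', hψ', rfl⟩ := h'
  refine ⟨θ + θ', ψ + ψ', by rw [Preadditive.comp_add, Preadditive.add_comp, hθ, hθ'], ?_, map_add _ _ _⟩
  rw [Submodule.coe_add, Preadditive.comp_add, Preadditive.add_comp, hψ, hψ']

theorem ObIs.smul {G : X.Modules} {φ : G ⟶ I} {κ : kernel φ ⟶ Q} {v : Coh.HH X ((SheafHomX.hom I).obj Q) 1}
    (h : ObIs A I Q φ κ v) (c : A) : ObIs A I Q φ (c • κ) (c • v) := by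
  obtain ⟨θ, ψ, hθ, hψ, rfl⟩ := h
  refine ⟨c • θ, c • ψ, by rw [Linear.comp_smul, Linear.smul_comp, hθ], ?_, map_smul _ _ _⟩
  rw [Submodule.coe_smul, Linear.comp_smul, Linear.smul_comp, hψ]

theorem ObIs.comp {G G' : X.Modules} {φ : G ⟶ I} {φ' : G' ⟶ I} {κ : kernel φ ⟶ Q}
    {v : Coh.HH X ((SheafHomX.hom I).obj Q) 1} (h : ObIs A I Q φ κ v) (g : G' ⟶ G) (hg : g ≫ φ = φ')
    (κ' : kernel φ' ⟶ Q)
    (hκ : κ' = kernel.lift φ (kernel.ι φ' ≫ g) (by rw [Category.assoc, hg, kernel.condition]) ≫ κ) :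
    ObIs A I Q φ' κ' v := by
  obtain ⟨θ, ψ, hθ, hψ, rfl⟩ := h
  refine ⟨g ≫ θ, ψ, ?_, by rw [← hg, Category.assoc, Category.assoc, hψ], rfl⟩
  rw [hκ, Category.assoc, ← hθ, ← Category.assoc (kernel.lift _ _ _), kernel.lift_ι, Category.assoc]

theorem obIs_zero_iff {G : X.Modules} {φ : G ⟶ I} [Epi φ] {κ : kernel φ ⟶ Q}
    {v : Coh.HH X ((SheafHomX.hom I).obj Q) 1} (h : ObIs A I Q φ κ v) :
    v = 0 ↔ ∃ θ : G ⟶ Q, kernel.ι φ ≫ θ = κ := by
  constructor
  · intro h0
    obtain ⟨θ, ψ, hθ, hψ, rfl⟩ := h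
    obtain ⟨ξ, hξ⟩ := (obψ_eq_zero_iff I Q ψ).1 h0
    have hz : (θ - φ ≫ ξ) ≫ qπ Q = 0 := by
      rw [Preadditive.sub_comp, Category.assoc, hξ, hψ, sub_self]
    refine ⟨Abelian.monoLift (inj Q) _ hz, (cancel_mono (inj Q)).1 ?_⟩
    rw [Category.assoc, Abelian.monoLift_comp, Preadditive.comp_sub, ← Category.assoc, kernel.condition, zero_comp,
      sub_zero, hθ]
  · rintro ⟨θ, hθ⟩
    have h' : ObIs A I Q φ κ 0 := ⟨θ ≫ inj Q, 0, by rw [← Category.assoc, hθ], by
      rw [Category.assoc, cokernel.condition, comp_zero]; exact comp_zero, map_zero _⟩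
    exact obIs_unique h h'

end Groth.Agent.NormalLib.LocalExt

end
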