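import Groth.Agent.Lib.PnDualSheafHom
import Groth.Agent.SheafHomX.Main
import Groth.Prelude.Def_DCoh4
import Groth.Prelude.Def_Omega2

/-!
# Global sections of the normal sheaf are maps from the ideal to the quotient
-/

set_option autoImplicit false
set_option backward.isDefEq.respectTransparency false
set_option backward.isDefEq.respectTransparency.types false
universe u

open CategoryTheory CategoryTheory.Limits AlgebraicGeometry

noncomputable section

namespace Groth.Agent.NormalLib

variable {A : Type u} [CommRing A]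

section Hom

variable {Y : Scheme.{u}} [Y.Over (Spec (CommRingCat.of A))]

theorem one_add {F : Y.Modules} (y y' : Coh.structureModule Y ⟶ F) :
    InvX.one (y + y') = InvX.one y + InvX.one y' := rfl

theorem cls_add {F : Y.Modules} (y y' : Coh.structureModule Y ⟶ F) :
    SheafHomX.cls (y + y') = SheafHomX.cls y + SheafHomX.cls y' := by
  rw [SheafHomX.cls, SheafHomX.cls, SheafHomX.cls, one_add]
  exact map_add _ _ _

theorem cls_smul {F : Y.Modules} (a : A) (y : Coh.structureModule Y ⟶ F) :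
    SheafHomX.cls (a • y) = a • SheafHomX.cls y := by
  rw [show a • y = y ≫ Formal.smulMod A F a by rw [← KLin.smul_id, Linear.comp_smul, Category.comp_id]]
  exact (SheafHomX.map_cls y _).symm.trans (congrArg (fun f => Sheaf.H.map f 0 (SheafHomX.cls y))
    (PnDual.toSheaf_smulMod F a))

/-- `H⁰` of the sheaf of homomorphisms. -/
theorem nonempty_hom_linearEquiv_HH (F N : Y.Modules) [DCoh.HasSheafHom F] :
    Nonempty ((F ⟶ N) ≃ₗ[A] Coh.HH Y ((DCoh.sheafHom F).obj N) 0) := by
  let e := (AmpleVan.sheafHomIso F).app N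
  let f : (F ⟶ N) → Coh.HH Y ((DCoh.sheafHom F).obj N) 0 := fun φ =>
    SheafHomX.cls ((SheafHomX.ev F N).symm φ ≫ e.inv)
  refine ⟨LinearEquiv.ofBijective { toFun := f, map_add' := fun φ ψ => ?_, map_smul' := fun a φ => ?_ } ⟨?_, ?_⟩⟩
  · show SheafHomX.cls ((SheafHomX.ev F N).symm (φ + ψ) ≫ e.inv) = _
    rw [map_add, Preadditive.add_comp, cls_add]
  · show SheafHomX.cls ((SheafHomX.ev F N).symm (a • φ) ≫ e.inv) = a • f φ
    rw [show (SheafHomX.ev F N).symm (a • φ) = a • (SheafHomX.ev F N).symm φ from ?_, Linear.smul_comp, cls_smul]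
    rw [AddEquiv.symm_apply_eq,
      show a • (SheafHomX.ev F N).symm φ = (SheafHomX.ev F N).symm φ ≫ (SheafHomX.hom F).map (Formal.smulMod A N a) by
        rw [PnDual.hom_map_smulMod, ← KLin.smul_id, Linear.comp_smul, Category.comp_id],
      SheafHomX.ev_naturality, AddEquiv.apply_symm_apply, ← KLin.smul_id, Linear.comp_smul, Category.comp_id]
  · intro φ ψ h
    exact (SheafHomX.ev F N).symm.injective ((cancel_mono e.inv).1 (SheafHomX.cls_injective h))
  · intro z
    obtain ⟨y, rfl⟩ := SheafHomX.cls_surjective z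
    refine ⟨SheafHomX.ev F N (y ≫ e.hom), ?_⟩
    show SheafHomX.cls ((SheafHomX.ev F N).symm _ ≫ e.inv) = _
    rw [AddEquiv.symm_apply_apply, Category.assoc, e.hom_inv_id, Category.comp_id]

end Hom

variable {X : Scheme.{u}} [X.Over (Spec (CommRingCat.of A))] (I₀ : X.IdealSheafData)
  [I₀.subscheme.Over (Spec (CommRingCat.of A))]

/-- Maps out of the conormal sheaf are maps from the ideal to the quotient. -/
theorem nonempty_conormal_hom_linearEquiv
    (hY : I₀.subscheme ↘ Spec (CommRingCat.of A) = I₀.subschemeι ≫ (X ↘ Spec (CommRingCat.of A))) :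
    Nonempty ((Omega.conormal I₀.subschemeι ⟶ Coh.structureModule I₀.subscheme) ≃ₗ[A]
      (ClSub.idealMod I₀ ⟶ ClSub.quotMod I₀)) := by
  haveI : I₀.subschemeι.IsOver (Spec (CommRingCat.of A)) := ⟨hY.symm⟩
  let ad := Scheme.Modules.pullbackPushforwardAdjunction I₀.subschemeι
  let e : ClSub.idealMod I₀.subschemeι.ker ≅ ClSub.idealMod I₀ :=
    eqToIso (congrArg ClSub.idealMod I₀.ker_subschemeι)
  let f : (Omega.conormal I₀.subschemeι ⟶ Coh.structureModule I₀.subscheme) →
      (ClSub.idealMod I₀ ⟶ ClSub.quotMod I₀) := fun φ => e.inv ≫ ad.homEquiv _ _ φ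
  refine ⟨LinearEquiv.ofBijective { toFun := f, map_add' := fun φ ψ => ?_, map_smul' := fun a φ => ?_ } ⟨?_, ?_⟩⟩
  · show e.inv ≫ ad.homEquiv _ _ (φ + ψ) = e.inv ≫ ad.homEquiv _ _ φ + e.inv ≫ ad.homEquiv _ _ ψ
    rw [← Preadditive.comp_add, Adjunction.homEquiv_unit, Adjunction.homEquiv_unit, Adjunction.homEquiv_unit,
      Functor.map_add, Preadditive.comp_add]
  · show e.inv ≫ ad.homEquiv _ _ (a • φ) = a • (e.inv ≫ ad.homEquiv _ _ φ)
    rw [Adjunction.homEquiv_unit, Adjunction.homEquiv_unit, Functor.map_smul, Linear.comp_smul, Linear.comp_smul]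
  · intro φ ψ h
    exact (ad.homEquiv _ _).injective ((cancel_epi e.inv).1 h)
  · intro g
    refine ⟨(ad.homEquiv _ _).symm (e.hom ≫ g), ?_⟩
    show e.inv ≫ ad.homEquiv _ _ ((ad.homEquiv _ _).symm (e.hom ≫ g)) = g
    rw [Equiv.apply_symm_apply, e.inv_hom_id_assoc]

/-- Global sections of the normal sheaf. -/
theorem nonempty_normal_linearEquiv
    (hY : I₀.subscheme ↘ Spec (CommRingCat.of A) = I₀.subschemeι ≫ (X ↘ Spec (CommRingCat.of A)))
    [DCoh.HasSheafHom (Omega.conormal I₀.subschemeι)] :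
    Nonempty ((ClSub.idealMod I₀ ⟶ ClSub.quotMod I₀) ≃ₗ[A]
      Coh.HH I₀.subscheme ((DCoh.sheafHom (Omega.conormal I₀.subschemeι)).obj
        (Coh.structureModule I₀.subscheme)) 0) := by
  obtain ⟨e⟩ := nonempty_conormal_hom_linearEquiv I₀ hY
  obtain ⟨e'⟩ := nonempty_hom_linearEquiv_HH (A := A) (Omega.conormal I₀.subschemeι) (Coh.structureModule I₀.subscheme)
  exact ⟨e.symm.trans e'⟩

end Groth.Agent.NormalLib

end
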