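import Groth.Agent.NormalLib.LocalExt
import Groth.Agent.Lib.ExtGlobal

/-!
# `H¹(hom(I, Q))` vanishes with `Ext¹(I, Q)`
-/

set_option autoImplicit false
set_option backward.isDefEq.respectTransparency false
set_option backward.isDefEq.respectTransparency.types false
set_option linter.style.haveILetI false
universe u

open CategoryTheory CategoryTheory.Limits AlgebraicGeometry

noncomputable section

namespace Groth.Agent.NormalLib.LocalExt

variable {A : Type u} [CommRing A] {X : Scheme.{u}} [X.Over (Spec (CommRingCat.of A))]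

include A in
/-- The edge map `H¹(hom(I, Q)) → Ext¹(I, Q)` is injective. -/
theorem subsingleton_H1_of_ext (I Q : X.Modules) [HasExt.{u} X.Modules]
    (h : Subsingleton (Abelian.Ext.{u} I Q 1)) : Subsingleton (Coh.HH X ((SheafHomX.hom I).obj Q) 1) := by
  haveI : ModSite.HasSheafHom (O := X.sheaf) I := ModTensor.hasSheafHom I
  refine subsingleton_of_forall_eq 0 fun v => ?_
  obtain ⟨z, rfl⟩ := QCoh.Ab.connecting_surjective (X := X.toPresheafedSpace.carrier)
    (QCoh.toAb_shortExact (hSeq_shortExact I Q)) 0 (ExtGlobal.acyclic_hom_injective I (Injective.under Q) 0) v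
  obtain ⟨y, rfl⟩ := SheafHomX.cls_surjective z
  let y' : Coh.structureModule X ⟶ (hSeq I Q).X₃ := y
  let ψ₀ := SheafHomX.ev I _ (y' ≫ Abelian.image.ι ((SheafHomX.hom I).map (qπ Q)))
  have hψ : ψ₀ ∈ liftable A I Q := by
    show (SheafHomX.ev I _).symm ψ₀ ≫ _ = 0
    rw [AddEquiv.symm_apply_apply, Category.assoc, kernel.condition, comp_zero]
  have hz : zEl I Q (⟨ψ₀, hψ⟩ : liftable A I Q) = y' := by
    refine (cancel_mono (Abelian.image.ι ((SheafHomX.hom I).map (qπ Q)))).1 ?_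
    rw [zEl_ι]
    exact AddEquiv.symm_apply_apply _ _
  let S₀ : ShortComplex X.Modules := ShortComplex.mk (inj Q) (qπ Q) (cokernel.condition _)
  haveI : Mono S₀.f := inferInstanceAs (Mono (inj Q))
  haveI : Epi S₀.g := inferInstanceAs (Epi (qπ Q))
  have hS : S₀.ShortExact := { exact := ShortComplex.exact_of_g_is_cokernel S₀ (cokernelIsCokernel _) }
  obtain ⟨ξ, hξ⟩ : ∃ ξ : I ⟶ Injective.under Q, ξ ≫ qπ Q = ψ₀ := by
    obtain ⟨w, hw⟩ := Abelian.Ext.covariant_sequence_exact₃ I hS (Abelian.Ext.mk₀ ψ₀) rfl (h.elim _ _)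
    obtain ⟨ξ, rfl⟩ := Abelian.Ext.addEquiv₀.symm.surjective w
    rw [Abelian.Ext.addEquiv₀_symm_apply, Abelian.Ext.mk₀_comp_mk₀] at hw
    exact ⟨ξ, (Abelian.Ext.mk₀_bijective _ _).1 hw⟩
  have h0 : obψ A I Q (⟨ψ₀, hψ⟩ : liftable A I Q) = 0 := (obψ_eq_zero_iff I Q _).2 ⟨ξ, hξ⟩
  exact (congrArg (fun t => QCoh.Ab.connecting (X := X.toPresheafedSpace.carrier)
    (QCoh.toAb_shortExact (hSeq_shortExact I Q)) 0 (SheafHomX.cls t)) hz).symm.trans h0

end Groth.Agent.NormalLib.LocalExt
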